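import Cfsg.Agent.Lib.Blocks.ProductFour.Section
import Cfsg.Agent.Lib.Blocks.SmallLocal
import Cfsg.Agent.Lib.Blocks.OneClass.Basic
import Cfsg.Agent.Lib.CharBlocks.Indicator
import Cfsg.Agent.Lib.CharNormal.Galois
import Cfsg.Agent.Lib.Blocks.KleinOrder
import Cfsg.Agent.Lib.OddLocal.Ten.Complement
import Cfsg.Agent.S4606

/-!
# Principal blocks with one class of nontrivial `p`-elements

`Column M x d`: the integer column of `x` on the principal block, with its three relations
(norm, degrees, indicators).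
-/

set_option autoImplicit false
set_option maxHeartbeats 1000000

noncomputable section

namespace CfsgLib.Blocks.ThreeChars

open Cfsg CfsgLib.Blocks CfsgLib.Char
open scoped ComplexConjugate Classical

universe u

variable {G : Type u} [Group G] [Fintype G] {p : ℕ} [hp : Fact p.Prime] {M : Ideal AlgInt} [M.IsMaximal]

omit hp in
theorem blockDefect_principal (p : ℕ) :
    blockDefect p (principalBlock M G) = (Nat.card G).factorization p := by
  rw [blockDefect, Nat.sInf_eq_zero.mpr (Or.inl ?_), Nat.sub_zero]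
  refine ⟨irrOne, irrOne_mem_principalBlock, ?_⟩
  show (charDegree ((irrOne : IrrCharacter G) : G → ℂ)).factorization p = 0
  rw [show charDegree ((irrOne : IrrCharacter G) : G → ℂ) = 1 from
    CfsgLib.CharBlocks.charDegree_eq (by simp [irrOne]), Nat.factorization_one, Finsupp.zero_apply]

omit [M.IsMaximal] in
/-- Regular sums on a nontrivial section are orthogonal to the degrees. -/
theorem sum_degree_regular {x : G} (hx : ∃ k : ℕ, orderOf x = p ^ k) (hx1 : x ≠ 1)
    [Fintype (Subgroup.centralizer ({x} : Set G))] :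
    ∑ χ : IrrCharacter G, (∑ s : Subgroup.centralizer ({x} : Set G),
      (if p ∣ orderOf s then 0 else (χ : G → ℂ) (x * (s : G)))) * (χ : G → ℂ) 1 = 0 := by
  simp only [Finset.sum_mul]
  rw [Finset.sum_comm]
  refine Finset.sum_eq_zero fun s _ => ?_
  by_cases hs : p ∣ orderOf s
  · simp [hs]
  simp only [if_neg hs]
  rw [Finset.sum_congr rfl (g := fun χ : IrrCharacter G => (χ : G → ℂ) 1 * (χ : G → ℂ) (x * (s : G)))
    fun χ _ => mul_comm _ _, sum_degree_mul_apply, if_neg]
  intro h
  have h1 : IsPPart p (x * (s : G)) x :=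
    isPPart_mul (commute_of_mem_centralizer s) hx (by rwa [Subgroup.orderOf_coe])
  rw [h] at h1
  exact hx1 (isPPart_unique h1 ⟨1, one_mul 1, Commute.one_left 1, ⟨0, by simp⟩,
    by simp only [orderOf_one]; exact hp.out.not_dvd_one⟩)

omit [M.IsMaximal] in
/-- Square roots on the section of an element of order `p`. -/
theorem sum_fsInd_regular (hp2 : p ≠ 2) {x : G} (hx : orderOf x = p)
    [Fintype (Subgroup.centralizer ({x} : Set G))] :
    ∑ χ : IrrCharacter G, CfsgLib.CharBlocks.fsInd (χ : G → ℂ) *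
      (∑ s : Subgroup.centralizer ({x} : Set G),
        (if p ∣ orderOf s then 0 else (χ : G → ℂ) (x * (s : G)))) =
    ((Finset.univ.filter fun s : Subgroup.centralizer ({x} : Set G) => ¬ p ∣ orderOf s).card : ℂ) := by
  set C := Subgroup.centralizer ({x} : Set G) with hC
  simp only [Finset.mul_sum, mul_ite, mul_zero]
  rw [Finset.sum_comm, Finset.card_eq_sum_card_fiberwise (t := Finset.univ.filter fun s : C => ¬ p ∣ orderOf s)
    (f := fun r : C => r * r) fun r hr => ?_]
  swap
  · simp only [Finset.coe_filter, Finset.mem_univ, true_and, Set.mem_setOf_eq] at hr ⊢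
    exact fun h => hr (h.trans ((sq r).symm ▸ orderOf_pow_dvd 2))
  push_cast
  rw [Finset.sum_filter]
  refine Finset.sum_congr (by ext; simp) fun s _ => ?_
  by_cases hs : p ∣ orderOf s
  · simp [hs]
  simp only [if_neg hs, if_pos hs, not_false_eq_true, if_true]
  rw [CfsgLib.CharBlocks.sum_fsInd_mul]
  norm_cast
  -- the square root of `x` in `⟨x⟩`
  obtain ⟨m, hm⟩ : ∃ m : ℕ, x ^ m * x ^ m = x := by
    obtain ⟨j, hj⟩ := (hp.out.odd_of_ne_two hp2)
    refine ⟨j + 1, ?_⟩
    rw [← pow_add, show j + 1 + (j + 1) = p + 1 by omega, pow_succ, ← hx, pow_orderOf_eq_one, one_mul]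
  have hxC : x ∈ C := Subgroup.mem_centralizer_singleton_iff.mpr rfl
  have hcomm : ∀ r : C, Commute x (r : G) := fun r => commute_of_mem_centralizer r
  refine (Finset.card_bij (fun (r : C) _ => x ^ m * (r : G)) (fun r hr => ?_)
    (fun a _ b _ e => Subtype.ext (mul_left_cancel e)) fun t ht => ?_).symm
  · simp only [Finset.mem_filter, Finset.mem_univ, true_and] at hr ⊢
    obtain ⟨-, rfl⟩ := hr
    rw [Subgroup.coe_mul]
    calc x ^ m * (r : G) * (x ^ m * (r : G)) = x ^ m * ((r : G) * x ^ m) * r := by group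
      _ = x ^ m * x ^ m * ((r : G) * r) := by rw [((hcomm r).pow_left m).symm.eq]; group
      _ = x * ((r : G) * r) := by rw [hm]
  · simp only [Finset.mem_filter, Finset.mem_univ, true_and] at ht ⊢
    have hso : ¬ p ∣ orderOf (s : G) := by rwa [Subgroup.orderOf_coe]
    obtain ⟨a, ha1, ha2⟩ := Nat.chineseRemainder ((hp.out.coprime_iff_not_dvd).mpr hso) 1 0
    have hxa : (x * (s : G)) ^ a = x := by
      rw [(hcomm s).mul_pow, pow_eq_pow_iff_modEq.mpr (by rw [hx]; exact ha1 : a ≡ 1 [MOD orderOf x]),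
        pow_eq_pow_iff_modEq.mpr (ha2 : a ≡ 0 [MOD orderOf (s : G)]), pow_one, pow_zero, mul_one]
    have htx : Commute x t := by
      rw [← hxa, ← ht]
      exact ((Commute.refl t).mul_left (Commute.refl t)).pow_left a
    have htC : t ∈ C := Subgroup.mem_centralizer_singleton_iff.mpr htx.eq.symm
    refine ⟨⟨(x ^ m)⁻¹ * t, C.mul_mem (C.inv_mem (C.pow_mem hxC m)) htC⟩, ?_, by simp⟩
    have hsq : (x ^ m)⁻¹ * t * ((x ^ m)⁻¹ * t) = (s : G) := by
      calc (x ^ m)⁻¹ * t * ((x ^ m)⁻¹ * t) = (x ^ m)⁻¹ * (t * (x ^ m)⁻¹) * t := by group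
        _ = (x ^ m * x ^ m)⁻¹ * (t * t) := by rw [((htx.pow_left m).inv_left).symm.eq]; group
        _ = (s : G) := by rw [hm, ht, inv_mul_cancel_left]
    have hsq' : (⟨(x ^ m)⁻¹ * t, C.mul_mem (C.inv_mem (C.pow_mem hxC m)) htC⟩ : C) *
        ⟨(x ^ m)⁻¹ * t, C.mul_mem (C.inv_mem (C.pow_mem hxC m)) htC⟩ = s := Subtype.ext hsq
    refine ⟨fun h => ?_, hsq'⟩
    set r : C := ⟨(x ^ m)⁻¹ * t, C.mul_mem (C.inv_mem (C.pow_mem hxC m)) htC⟩
    have h2 : orderOf r ∣ 2 * orderOf s := orderOf_dvd_iff_pow_eq_one.mpr (by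
      rw [pow_mul, sq, hsq', pow_orderOf_eq_one])
    rcases hp.out.dvd_mul.mp (h.trans h2) with h3 | h3
    · exact hp2 ((Nat.prime_dvd_prime_iff_eq hp.out Nat.prime_two).mp h3)
    · exact hs h3

/-- The column of `x` on the principal block. -/
structure Column (M : Ideal AlgInt) [M.IsMaximal] (p : ℕ) (x : G) (q : ℕ) where
  d : IrrCharacter G → ℤ
  val : ∀ χ ∈ principalBlock M G, (χ : G → ℂ) x = d χ
  ne_zero : ∀ χ ∈ principalBlock M G, d χ ≠ 0
  one : d irrOne = 1
  norm : ∑ χ ∈ Finset.univ.filter (· ∈ principalBlock M G), d χ ^ 2 = (q : ℤ)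
  deg : ∑ χ ∈ Finset.univ.filter (· ∈ principalBlock M G), d χ * (charDegree (χ : G → ℂ) : ℤ) = 0
  ind : p ≠ 2 → ∑ χ ∈ Finset.univ.filter (· ∈ principalBlock M G),
    CfsgLib.CharBlocks.fsInd (χ : G → ℂ) * (d χ : ℂ) = 1

/-- **The column when `k(B₀) = l(B₀) + 1`.** -/
theorem exists_column (hM : IsPModular p M) (P : Sylow p G) (hP : (P : Subgroup G) ≠ ⊥)
    (hk : Nat.card (principalBlock M G) = blockRank p (principalBlock M G) + 1) :
    ∃ x : G, Nonempty (Column M p x (Nat.card (P : Subgroup G))) := by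
  have hB := isPBlock_principalBlock (M := M) (G := G)
  have hD : IsDefectGroup p M (principalBlock M G) (P : Subgroup G) :=
    CfsgLib.BrauerPairs.isDefectGroup_of_maximal hM (CfsgLib.BrauerPairs.isMaximal_principal hM P)
  have hel := Cfsg.Agent.S4606.result p M hM _ hB (P : Subgroup G) hD hk (Or.inl rfl)
  have hc := CfsgLib.Blocks.OneClass.conj_of_count hM hB hD hk.le
  obtain ⟨⟨x, hxP⟩, hx1'⟩ : ∃ y : (P : Subgroup G), y ≠ 1 := by
    have := (Subgroup.nontrivial_iff_ne_bot _).mpr hP
    exact exists_ne 1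
  have hx1 : x ≠ 1 := fun h => hx1' (Subtype.ext h)
  refine ⟨x, ?_⟩
  have hexp : ∀ a ∈ (P : Subgroup G), a ^ p = 1 := hel.2
  have hord : orderOf x = p := orderOf_eq_prime (hexp x hxP) hx1
  have hxk : ∃ k : ℕ, orderOf x = p ^ k := ⟨1, by rw [hord, pow_one]⟩
  set C := Subgroup.centralizer ({x} : Set G) with hC
  have hone := (hc x hxP hx1).1
  have hnc : ∃ k : ℕ, (pPrimeCore p C).index = p ^ k := by
    refine CfsgLib.OddLocal.Ten.index_pPrimeCore_eq_pow ?_
    rw [Cfsg.Agent.S4691.result p M hM, Cfsg.Agent.S4646.result p M hM]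
    have hind : IsInducedBlock M C (principalBlock M C) (principalBlock M G) := by
      have hC' : C = CfsgLib.BrauerPairs.Cen (Subgroup.zpowers x) := by
        rw [hC, Subgroup.zpowers_eq_closure, CfsgLib.BrauerPairs.Cen, Subgroup.centralizer_closure]
      clear_value C
      subst hC'
      have hZ : IsPGroup p (Subgroup.zpowers x) := P.isPGroup'.to_le (Subgroup.zpowers_le.mpr hxP)
      exact (CfsgLib.BrauerPairs.brauerPairOf_iff_induced hM hZ isPBlock_principalBlock hB).mp
        ((CfsgLib.BrauerPairs.brauerPairOf_principal_iff hM hZ isPBlock_principalBlock).mpr rfl)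
    refine le_antisymm (hone ▸ ?_) (CfsgLib.BlockArith.blockRank_pos hind.1)
    rw [CfsgLib.Blocks.ChainSum.rankSum, finsum_mem_eq_finite_toFinset_sum _ (Set.toFinite _)]
    exact Finset.single_le_sum (f := fun β => Cfsg.blockRank p β) (fun β _ => Nat.zero_le _)
      ((Set.Finite.mem_toFinset _).mpr hind)
  -- the Sylow subgroup lies in the centraliser
  have hPC : (P : Subgroup G) ≤ C := fun y hy => by
    rw [hC, Subgroup.mem_centralizer_singleton_iff]
    have h := hel.1.1.comm ⟨y, hy⟩ ⟨x, hxP⟩
    exact congrArg Subtype.val h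
  have hidx : ¬ p ∣ C.index := fun h => P.not_dvd_index (h.trans (Subgroup.index_dvd_of_le hPC))
  have hfac : (Nat.card C).factorization p = (Nat.card G).factorization p := by
    rw [← C.card_mul_index, Nat.factorization_mul (Nat.card_pos).ne' C.index_ne_zero_of_finite,
      Finsupp.add_apply, Nat.factorization_eq_zero_of_not_dvd hidx, add_zero]
  have hint : ∀ χ : IrrCharacter G, ∃ m : ℤ, (χ : G → ℂ) x = m := fun χ =>
    CfsgLib.CharNormal.exists_int_of_forall_coprime (isCharacter_of_isIrr χ.2) x fun k hk => by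
      have hk1 : x ^ k ≠ 1 := fun h => by
        rw [← orderOf_dvd_iff_pow_eq_one, hord] at h
        rw [hord] at hk
        exact (hp.out.coprime_iff_not_dvd.mp hk.symm) h
      obtain ⟨w, hw⟩ := isConj_iff.mp ((hc x hxP hx1).2 (x ^ k) ((P : Subgroup G).pow_mem hxP k) hk1)
      rw [← hw]
      exact isClassFunction_of_isIrr χ.2 x w
  choose d hd using hint
  set F := Finset.univ.filter (· ∈ principalBlock M G) with hF
  have hconst : ∀ χ ∈ principalBlock M G, ∀ s : C, ¬ p ∣ orderOf s → (χ : G → ℂ) (x * (s : G)) = d χ :=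
    fun χ hχ s hs => by rw [principal_section_const hM hxk hnc hχ hs, hd]
  let N : ℂ := ((Finset.univ.filter fun s : C => ¬ p ∣ orderOf s).card : ℂ)
  have hN : N ≠ 0 := by
    simp only [N, ne_eq, Nat.cast_eq_zero, Finset.card_eq_zero]
    exact Finset.nonempty_iff_ne_empty.mp ⟨1, by simp [hp.out.ne_one]⟩
  have hreg : ∀ χ : IrrCharacter G, (∑ s : C, (if p ∣ orderOf s then 0 else (χ : G → ℂ) (x * (s : G)))) =
      if χ ∈ principalBlock M G then N * (d χ : ℂ) else 0 := by
    intro χ
    have h := CfsgLib.ProductFour.sum_regular_section hM hxk χ (ζ := irrOne) irrOne_mem_principalBlock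
    simp only [irrOne_apply, map_one, mul_one] at h
    rw [h]
    split_ifs with hχ
    · rw [← nsmul_eq_mul, ← Finset.sum_const, Finset.sum_filter]
      exact Finset.sum_congr rfl fun s _ => by
        by_cases hs : p ∣ orderOf s
        · simp [hs]
        · simp [hs, hconst χ hχ s hs]
    · rfl
  refine ⟨⟨d, fun χ _ => hd χ, fun χ hχ h0 => ?_, ?_, ?_, ?_, fun hp2 => ?_⟩⟩
  · exact CfsgLib.ProductFour.ne_zero_of_odd_class hM hχ hidx (by rw [hd, h0, Int.cast_zero])
  · have h := hd (irrOne : IrrCharacter G)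
    rw [irrOne_apply] at h
    exact_mod_cast h.symm
  · have h := sum_principal_section_complement hM hxk hnc (y := (1 : C))
      (by rw [orderOf_one]; exact hp.out.not_dvd_one)
    rw [OneMemClass.coe_one, mul_one, hfac, ← P.card_eq_multiplicity, ← Finset.sum_filter] at h
    simp only [hd, map_intCast, ← sq, ← hF] at h
    exact_mod_cast h
  · have h := sum_degree_regular hxk hx1
    rw [← hC] at h
    simp only [hreg, ite_mul, zero_mul, ← Finset.sum_filter, ← hF] at h
    have h2 : N * ∑ χ ∈ F, (d χ : ℂ) * (charDegree (χ : G → ℂ) : ℂ) = 0 := by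
      rw [Finset.mul_sum, ← h]
      exact Finset.sum_congr rfl fun χ _ => by
        rw [CfsgLib.Blocks.charDegree_eq (isCharacter_of_isIrr χ.2)]; ring
    exact_mod_cast (mul_eq_zero.mp h2).resolve_left hN
  · have h := sum_fsInd_regular hp2 hord
    rw [← hC] at h
    simp only [hreg, mul_ite, mul_zero, ← Finset.sum_filter, ← hF] at h
    refine mul_left_cancel₀ hN ?_
    rw [mul_one, Finset.mul_sum]
    exact (Finset.sum_congr rfl fun χ _ => by ring).trans h

/-- **Three characters.** -/
theorem card_sylow_of_card_eq_three (hM : IsPModular p M) (hk : Nat.card (principalBlock M G) = 3)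
    (P : Sylow p G) : Nat.card (P : Subgroup G) = 3 := by
  have hB := isPBlock_principalBlock (M := M) (G := G)
  have hfac : Nat.card (P : Subgroup G) = p ^ blockDefect p (principalBlock M G) := by
    rw [blockDefect_principal, P.card_eq_multiplicity]
  have hd : 0 < blockDefect p (principalBlock M G) := by
    by_contra h
    have h0 : blockDefect p (principalBlock M G) = 0 := by omega
    -- a block of defect zero has one character
    have h1 := (show Nat.card (principalBlock M G) = 1 from CfsgLib.BlockArith.card_eq_one_of_defect_zero hM hB h0)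
    omega
  have hP : (P : Subgroup G) ≠ ⊥ := fun h => by
    rw [h, Subgroup.card_bot] at hfac
    exact (Nat.one_lt_pow hd.ne' hp.out.one_lt).ne hfac
  have hpos := CfsgLib.BlockArith.blockRank_pos (p := p) hB
  have hlt := CfsgLib.BlockArith.blockRank_lt_card hM hB hd
  rw [hk] at hlt
  rcases (by omega : blockRank p (principalBlock M G) = 1 ∨ blockRank p (principalBlock M G) = 2) with hl | hl
  · rw [hfac, ← CfsgLib.Blocks.SmallLocal.card_eq_pow_of_rank_one hM hB hd hl (by omega), hk]
  obtain ⟨x, ⟨Col⟩⟩ := exists_column hM P hP (by omega)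
  set q := Nat.card (P : Subgroup G) with hq
  set F := Finset.univ.filter (· ∈ principalBlock M G) with hF
  have hcard : F.card = 3 := by rw [← hk, Nat.card_eq_fintype_card, Fintype.card_subtype]
  have h1F : (irrOne : IrrCharacter G) ∈ F := by simp [hF, irrOne_mem_principalBlock]
  obtain ⟨χ, ψ, hne, he⟩ := Finset.card_eq_two.mp (by rw [Finset.card_erase_of_mem h1F, hcard] :
    (F.erase irrOne).card = 2)
  have hχ : χ ∈ F.erase irrOne := by rw [he]; simp
  have hψ : ψ ∈ F.erase irrOne := by rw [he]; simp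
  simp only [hF, Finset.mem_erase, Finset.mem_filter, Finset.mem_univ, true_and] at hχ hψ
  have hsplit : ∀ {A : Type} [AddCommMonoid A] (f : IrrCharacter G → A),
      ∑ η ∈ F, f η = f irrOne + (f χ + f ψ) := by
    intro A _ f
    rw [← Finset.add_sum_erase _ _ h1F, he, Finset.sum_pair hne]
  have ha := Col.ne_zero χ hχ.2
  have hb := Col.ne_zero ψ hψ.2
  have hnorm := Col.norm
  have hdeg := Col.deg
  rw [← hF, hsplit, Col.one, one_pow] at hnorm
  rw [← hF, hsplit, Col.one, show charDegree ((irrOne : IrrCharacter G) : G → ℂ) = 1 from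
    CfsgLib.CharBlocks.charDegree_eq (by simp [irrOne]), Nat.cast_one, mul_one] at hdeg
  set a := Col.d χ
  set b := Col.d ψ
  by_cases hp2 : p = 2
  · subst hp2
    exfalso
    have h4 : (4 : ℤ) ∣ (q : ℤ) := by
      have : 2 ≤ blockDefect 2 (principalBlock M G) := by
        by_contra h
        have hd1 : blockDefect 2 (principalBlock M G) = 1 := by omega
        rw [hd1, pow_one] at hfac
        have := sq_pos_of_ne_zero ha
        have := sq_pos_of_ne_zero hb
        omega
      rw [hfac]
      exact_mod_cast (pow_dvd_pow 2 this : 2 ^ 2 ∣ 2 ^ blockDefect 2 (principalBlock M G))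
    have key : ∀ u v : ZMod 4, 1 + (u ^ 2 + v ^ 2) ≠ 0 := by decide
    refine key a b ?_
    have h := congrArg (Int.cast : ℤ → ZMod 4) hnorm
    push_cast at h
    rw [h]
    exact_mod_cast (ZMod.intCast_zmod_eq_zero_iff_dvd (q : ℤ) 4).mpr h4
  have hind := Col.ind hp2
  rw [← hF, hsplit, CfsgLib.CharBlocks.fsInd_irrOne, Col.one, Int.cast_one, one_mul, add_eq_left] at hind
  have hab : a ^ 2 = b ^ 2 := by
    rcases CfsgLib.CharBlocks.fsInd_cases χ.2 with ⟨-, e | e⟩ | ⟨hχr, e⟩ <;>
      rcases CfsgLib.CharBlocks.fsInd_cases ψ.2 with ⟨-, e' | e'⟩ | ⟨hψr, e'⟩ <;>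
      rw [e, e'] at hind <;>
      simp only [one_mul, neg_one_mul, zero_mul, zero_add, add_zero, neg_eq_zero, Int.cast_eq_zero] at hind <;>
      first
      | (exact absurd hind ha)
      | (exact absurd hind hb)
      | (have h : (a : ℂ) ^ 2 = (b : ℂ) ^ 2 := by
            first
            | linear_combination ((a : ℂ) - b) * hind
            | linear_combination -((a : ℂ) - b) * hind
            | linear_combination ((a : ℂ) + b) * hind
            | linear_combination -((a : ℂ) + b) * hind
         exact_mod_cast h)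
      | skip
    -- two conjugate characters
    have hmem : irrConj χ ∈ F.erase irrOne := by
      simp only [hF, Finset.mem_erase, Finset.mem_filter, Finset.mem_univ, true_and]
      refine ⟨fun h => hχ.1 ?_, irrConj_mem_principalBlock hχ.2⟩
      rw [← irrConj_irrConj χ, h]
      exact Subtype.ext (funext fun g => by rw [irrConj_apply, irrOne_apply, map_one])
    rw [he, Finset.mem_insert, Finset.mem_singleton] at hmem
    rcases hmem with h | h
    · exact absurd (fun g => congrFun (congrArg Subtype.val h) g) hχr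
    · have h2 := congrFun (congrArg Subtype.val h) x
      rw [irrConj_apply, Col.val χ hχ.2, map_intCast, Col.val ψ hψ.2] at h2
      rw [show a = b from Int.cast_injective h2]
  have hdvd : a ∣ 1 := by
    rcases sq_eq_sq_iff_eq_or_eq_neg.mp hab.symm with h | h <;> rw [h] at hdeg
    · exact ⟨-((charDegree (χ : G → ℂ) : ℤ) + charDegree (ψ : G → ℂ)), by linear_combination hdeg⟩
    · exact ⟨(charDegree (ψ : G → ℂ) : ℤ) - charDegree (χ : G → ℂ), by linear_combination hdeg⟩
  have ha1 : a ^ 2 = 1 := by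
    rcases Int.isUnit_iff.mp (isUnit_of_dvd_one hdvd) with h | h <;> rw [h] <;> norm_num
  rw [← hab, ha1] at hnorm
  exact_mod_cast hnorm.symm

end CfsgLib.Blocks.ThreeChars
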